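import Cfsg.Agent.Lib.Spor.SchurCert.PermBridge
import Cfsg.Agent.Lib.Spor.Mults.JTwo.Data

/-!
The certificate at the prime 2: a polycyclic sequence of a Sylow subgroup and conjugations killing the tails.
-/

set_option autoImplicit false
set_option maxRecDepth 100000
set_option maxHeartbeats 0

namespace CfsgLib.Spor.Mults.JTwo.P2

open CfsgLib.Spor.SchurCert

/-- The Sylow elements. -/
def sw : List (List ℕ) := [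
    [20, 90, 4, 195],
    [25, 18, 77, 200],
    [174, 79, 115, 197],
    [57, 125, 4, 190],
    [28, 89, 113, 155],
    [52, 210, 77, 154],
    [179, 84, 78, 4]]

/-- The conjugating elements. -/
def gw : List (List ℕ) := [
    [221, 157, 114, 4],
    [135, 121, 115, 191],
    [21, 127, 115, 189]]

/-- The certificate. -/
def cert : SchurCert.Cert where
  p := 2
  m := 7
  N := 4
  rules := [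
    ([0, 0], [2, 3]),
    ([1, 1], []),
    ([2, 2], [5, 6]),
    ([3, 3], []),
    ([4, 4], [6]),
    ([5, 5], []),
    ([6, 6], []),
    ([1, 0], [0, 1, 2, 3, 4, 6]),
    ([2, 0], [0, 2, 4]),
    ([2, 1], [1, 2, 6]),
    ([3, 0], [0, 3, 4]),
    ([3, 1], [1, 3, 5, 6]),
    ([3, 2], [2, 3, 5]),
    ([4, 0], [0, 4, 5, 6]),
    ([4, 1], [1, 4, 5, 6]),
    ([4, 2], [2, 4]),
    ([4, 3], [3, 4, 6]),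
    ([5, 0], [0, 5, 6]),
    ([5, 1], [1, 5]),
    ([5, 2], [2, 5]),
    ([5, 3], [3, 5]),
    ([5, 4], [4, 5]),
    ([6, 0], [0, 6]),
    ([6, 1], [1, 6]),
    ([6, 2], [2, 6]),
    ([6, 3], [3, 6]),
    ([6, 4], [4, 6]),
    ([6, 5], [5, 6])]
  maps := [
    [([1, 5], [3, 4]), ([3, 4, 5, 6], [1, 3, 4])],
    [([0, 1, 3, 5], [6]), ([6], [0, 1, 3, 5])],
    [([1], [1, 5]), ([2], [1, 4, 5, 6]), ([3], [1, 2, 4, 6]), ([4], [1, 2, 3, 5]), ([5], [6]), ([6], [5, 6])]]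
  overlaps := [
    ([0, 0, 0], [(0, 0), (10, 1), (8, 0), (16, 2), (26, 4), (4, 3), (6, 3)], [(0, 1)]),
    ([1, 1, 0], [(1, 0)], [(7, 1), (7, 0), (23, 5), (14, 4), (11, 3), (9, 2), (1, 1), (25, 2), (27, 3), (6, 4), (21, 3), (5, 4), (6, 4), (15, 3), (12, 2), (2, 1), (25, 2), (20, 1), (27, 3), (5, 2), (26, 2), (25, 3), (16, 2), (3, 1), (6, 2), (4, 1), (6, 1)]),
    ([1, 0, 0], [(0, 1)], [(7, 0), (22, 5), (13, 4), (10, 3), (8, 2), (7, 1), (0, 0), (11, 1), (9, 0), (25, 2), (27, 3), (6, 4), (19, 3), (12, 2), (2, 1), (25, 2), (20, 1), (27, 3), (5, 2), (27, 2), (25, 3), (20, 2), (3, 1), (26, 2), (21, 1), (6, 3), (19, 2), (15, 1), (21, 3), (4, 2), (27, 2), (25, 3), (20, 2), (26, 4), (21, 3), (26, 5), (21, 4), (4, 3), (27, 3), (6, 4), (5, 3), (6, 3)]),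
    ([2, 2, 2], [(2, 0), (24, 1), (19, 0)], [(2, 1)]),
    ([2, 2, 0], [(2, 0), (22, 1), (17, 0), (6, 2)], [(8, 1), (8, 0), (15, 2), (2, 1), (26, 2), (21, 1), (26, 3), (21, 2), (4, 1), (27, 1), (6, 2)]),
    ([2, 0, 0], [(0, 1), (2, 0), (25, 1), (20, 0)], [(8, 0), (13, 2), (8, 1), (0, 0), (12, 1), (2, 0), (25, 1), (20, 0), (27, 2), (5, 1), (26, 1), (26, 2), (4, 1), (6, 1)]),
    ([2, 2, 1], [(2, 0), (23, 1), (18, 0)], [(9, 1), (9, 0), (24, 2), (2, 1), (6, 2)]),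
    ([2, 1, 1], [(1, 1)], [(9, 0), (23, 2), (9, 1), (1, 0), (6, 1)]),
    ([2, 1, 0], [(9, 0), (22, 2), (8, 1), (7, 0), (24, 5), (15, 4), (12, 3), (2, 2), (25, 3), (20, 2), (27, 4), (5, 3), (26, 3), (6, 4), (4, 3), (6, 3)], [(7, 1), (8, 0), (14, 2), (9, 1), (26, 3), (27, 4), (6, 5), (19, 4), (15, 3), (2, 2), (26, 3), (21, 2), (27, 4), (5, 3), (25, 3), (16, 2), (6, 4), (4, 3), (6, 3)]),
    ([3, 3, 0], [(3, 0)], [(10, 1), (10, 0), (16, 2), (3, 1), (26, 2), (4, 1), (6, 1)]),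
    ([3, 3, 1], [(3, 0)], [(11, 1), (11, 0), (25, 3), (20, 2), (3, 1), (27, 2), (5, 1), (6, 1)]),
    ([3, 1, 1], [(1, 1)], [(11, 0), (23, 3), (18, 2), (11, 1), (1, 0), (27, 2), (5, 1), (6, 1)]),
    ([3, 1, 0], [(11, 0), (22, 3), (17, 2), (10, 1), (7, 0), (25, 5), (16, 4), (3, 3), (6, 4), (4, 3), (27, 3), (6, 4)], [(7, 1), (10, 0), (14, 2), (11, 1), (26, 4), (21, 3), (27, 5), (5, 4), (6, 4), (15, 3), (12, 2), (21, 4), (20, 5), (16, 4), (3, 3), (27, 4), (26, 5), (21, 4), (4, 3), (27, 3), (6, 4)]),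
    ([3, 2, 1], [(12, 0), (18, 2), (11, 1), (9, 0), (25, 2), (27, 3), (6, 4), (5, 3)], [(9, 1), (11, 0), (24, 3), (19, 2), (12, 1), (5, 3), (6, 3)]),
    ([4, 4, 4], [(4, 0), (26, 0)], [(4, 1)]),
    ([4, 4, 0], [(4, 0), (22, 0)], [(13, 1), (13, 0), (26, 3), (21, 2), (4, 1), (27, 1), (6, 2), (5, 1)]),
    ([4, 0, 0], [(0, 1), (15, 0), (16, 1)], [(13, 0), (22, 3), (17, 2), (13, 1), (0, 0), (27, 4), (5, 3), (6, 3)]),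
    ([4, 4, 1], [(4, 0), (23, 0)], [(14, 1), (14, 0), (26, 3), (21, 2), (4, 1), (27, 1), (6, 2), (5, 1)]),
    ([4, 4, 2], [(4, 0), (24, 0)], [(15, 1), (15, 0), (4, 1)]),
    ([4, 2, 2], [(2, 1)], [(15, 0), (15, 1), (2, 0), (26, 1), (21, 0)]),
    ([4, 2, 1], [(15, 0), (14, 1), (9, 0), (26, 2), (27, 3), (6, 4)], [(9, 1), (14, 0), (24, 3), (19, 2), (15, 1), (6, 4)]),
    ([4, 4, 3], [(4, 0), (25, 0)], [(16, 1), (16, 0), (26, 2), (4, 1), (6, 1)]),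
    ([4, 3, 0], [(16, 0), (22, 2), (13, 1), (10, 0), (4, 2), (27, 2), (6, 3)], [(10, 1), (13, 0), (25, 3), (20, 2), (16, 1), (27, 3), (6, 4), (21, 3), (4, 2), (27, 2)]),
    ([4, 3, 1], [(16, 0), (23, 2), (14, 1), (11, 0), (26, 3), (21, 2), (27, 4), (5, 3), (6, 3)], [(11, 1), (14, 0), (25, 3), (20, 2), (16, 1), (27, 3), (6, 4), (5, 3)]),
    ([5, 0, 0], [(0, 1), (19, 0), (20, 1)], [(17, 0), (22, 2), (17, 1), (0, 0), (6, 3)]),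
    ([5, 2, 2], [(2, 1), (5, 0)], [(19, 0), (19, 1), (2, 0), (27, 1), (5, 0)])]
  fuses := [
    ⟨0, [0, 0], [], [(18, 1), (1, 0), (5, 0)], [], [(16, 1), (3, 0), (26, 1), (4, 0), (6, 0)], []⟩,
    ⟨0, [1, 1], [], [(25, 3), (20, 2), (16, 1), (3, 0), (27, 1), (6, 2), (21, 1), (4, 0), (27, 0), (27, 1), (5, 0), (6, 0)], [], [(14, 2), (11, 1), (1, 0), (26, 2), (21, 1), (27, 3), (5, 2), (6, 2), (16, 1), (3, 0), (26, 1), (4, 0), (6, 0)], []⟩,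
    ⟨1, [0, 0], [], [(17, 3), (10, 2), (7, 1), (0, 0), (11, 1), (9, 0), (25, 2), (27, 3), (6, 4), (19, 3), (12, 2), (2, 1), (25, 2), (20, 1), (27, 3), (5, 2), (27, 2), (25, 3), (20, 2), (3, 1), (26, 2), (21, 1), (6, 3), (20, 2), (16, 1), (27, 3), (26, 4), (21, 3), (4, 2), (27, 2), (6, 3), (5, 2), (23, 2), (11, 1), (1, 0), (6, 2), (20, 1), (3, 0), (5, 0)], [], [(6, 0)], []⟩,
    ⟨2, [0, 0], [], [(1, 0)], [], [(18, 1), (1, 0), (5, 0)], []⟩,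
    ⟨2, [1, 0], [0, 1, 5], [(9, 0)], [], [(23, 3), (18, 2), (14, 1), (1, 0), (27, 2), (5, 1), (6, 1)], [(18, 1), (1, 0), (21, 0), (5, 1), (27, 1), (6, 2)]⟩,
    ⟨2, [2, 0], [0, 2, 4, 5], [(11, 0)], [], [(23, 3), (14, 2), (9, 1), (1, 0), (26, 1), (27, 2), (6, 3), (27, 3), (5, 2)], [(18, 1), (1, 0), (19, 0), (21, 1), (6, 3), (5, 2)]⟩,
    ⟨2, [4, 0], [0, 4], [(18, 0)], [], [(23, 0), (27, 1)], []⟩,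
    ⟨2, [5, 0], [0, 5], [(23, 0)], [], [(23, 1), (18, 0), (27, 2), (5, 1)], [(5, 1)]⟩,
    ⟨2, [1, 1], [4, 5], [(2, 0)], [], [(23, 3), (18, 2), (14, 1), (1, 0), (27, 2), (5, 1), (6, 1), (4, 0), (27, 0), (6, 1)], [(27, 0), (6, 1)]⟩,
    ⟨2, [2, 1], [1, 2, 4], [(12, 0)], [], [(23, 3), (14, 2), (9, 1), (1, 0), (26, 1), (27, 2), (6, 3), (26, 3), (21, 2), (4, 1), (27, 1), (6, 2), (5, 1)], [(23, 3), (18, 2), (14, 1), (1, 0), (27, 2), (5, 1), (6, 1), (15, 0), (4, 1), (6, 1)]⟩,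
    ⟨2, [3, 1], [1, 3], [(15, 0)], [], [(18, 3), (11, 2), (9, 1), (1, 0), (25, 1), (27, 2), (6, 3), (5, 2)], [(23, 3), (18, 2), (14, 1), (1, 0), (27, 2), (5, 1), (6, 1), (15, 0), (16, 1), (27, 3)]⟩,
    ⟨2, [2, 2], [], [(3, 0)], [], [(23, 3), (14, 2), (9, 1), (1, 0), (26, 1), (27, 2), (6, 3), (24, 3), (19, 2), (15, 1), (2, 0), (26, 1), (21, 0), (27, 2), (5, 1), (6, 1), (4, 0), (6, 0)], []⟩,
    ⟨2, [3, 2], [2, 3, 5], [(16, 0)], [], [(18, 3), (11, 2), (9, 1), (1, 0), (25, 1), (27, 2), (6, 3), (5, 2), (12, 1), (2, 0), (25, 1), (20, 0), (27, 2), (5, 1), (26, 1), (6, 2)], [(23, 3), (14, 2), (9, 1), (1, 0), (26, 1), (27, 2), (6, 3), (24, 3), (19, 2), (15, 1), (2, 0), (26, 1), (21, 0), (27, 2), (5, 1), (6, 1), (16, 0), (27, 2), (27, 3), (5, 2), (6, 2)]⟩,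
    ⟨2, [3, 3], [5], [(4, 0)], [], [(18, 3), (11, 2), (9, 1), (1, 0), (25, 1), (27, 2), (6, 3), (5, 2), (12, 1), (2, 0), (25, 1), (20, 0), (27, 2), (5, 1), (25, 1), (3, 0), (27, 0)], []⟩]
  adj := [
    [(4, 1), (10, 1), (28, 1), (35, 1)],
    [(7, 1), (12, 1), (16, 1), (45, 1)],
    [(0, 1), (4, 2), (7, 3), (10, 1), (16, 3), (28, 1), (35, 2), (45, 3)],
    [(7, 1), (10, 1), (16, 1), (28, 1), (45, 1)],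
    [(8, 1)],
    [(12, 1)],
    [(9, 1)]]
  base := [
    ([(0, 2), (2, 1), (3, 1), (11, 3)], 2, [(0, 2), (2, 2), (3, 2), (4, 2), (5, 2), (8, 2), (9, 2), (10, 3), (13, 2), (16, 2), (17, 1), (23, 3), (30, 2), (38, 2)])]
  dense := [
    [0, 0, 0, 0, 1, 0, 1, 0, 1, 0, 1, 0, 0, 0, 0, 0, 1, 0, 0, 0, 0, 0, 0, 0, 0, 0, 1],
    [0, 0, 3, 3, 3, 2, 0, 2, 0, 3, 0, 3, 3, 0, 3, 3, 3, 0, 0, 0, 3, 3, 0, 3, 0, 1, 3, 2],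
    [0, 0, 3, 3, 2, 2, 0, 2, 3, 3, 3, 3, 3, 3, 0, 3, 0, 0, 0, 2, 1, 0, 3, 0, 0, 0, 1, 3],
    [0, 0, 0, 0, 0, 0, 0, 0, 0, 0, 0, 0, 0, 0, 0, 0, 0, 0, 0, 1, 0, 0, 0, 0, 1],
    [0, 0, 0, 0, 3, 0, 0, 0, 2, 0, 0, 0, 0, 0, 0, 3, 0, 1, 0, 0, 0, 2, 1, 0, 0, 0, 2, 3],
    [0, 0, 0, 0, 3, 3, 3, 0, 2, 0, 0, 0, 3, 3, 0, 0, 0, 0, 0, 0, 0, 0, 0, 0, 0, 0, 2, 3],
    [0, 0, 0, 0, 0, 0, 3, 0, 0, 2, 0, 0, 0, 0, 0, 0, 0, 0, 1, 0, 0, 0, 0, 1, 3],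
    [0, 0, 0, 0, 0, 0, 3, 0, 0, 2, 0, 0, 0, 0, 0, 0, 0, 0, 0, 0, 0, 0, 0, 3],
    [0, 0, 0, 0, 0, 0, 3, 0, 0, 0, 0, 0, 1, 0, 3, 0, 3, 0, 0, 3, 1, 3, 1, 0, 1, 0, 3, 3],
    [0, 0, 0, 0, 3, 0, 3, 0, 0, 0, 2, 0, 0, 0, 0, 0, 3, 0, 0, 0, 0, 0, 0, 0, 0, 0, 3],
    [0, 0, 0, 0, 0, 3, 3, 0, 0, 0, 0, 2, 0, 0, 0, 0, 0, 0, 0, 0, 3, 0, 0, 0, 0, 3, 0, 3],
    [0, 0, 0, 0, 0, 3, 3, 0, 0, 0, 0, 2, 0, 0, 0, 0, 0, 0, 3, 0, 0, 0, 0, 3, 0, 0, 0, 3],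
    [0, 0, 0, 0, 0, 3, 0, 0, 0, 0, 0, 0, 3, 0, 3, 3, 0, 1, 0, 0, 3, 1, 1, 0, 0, 1, 2, 2],
    [0, 0, 0, 0, 0, 0, 0, 0, 0, 0, 0, 0, 0, 0, 0, 0, 0, 0, 1, 3, 0, 0, 0, 0, 3, 1, 0, 1],
    [0, 0, 0, 0, 0, 0, 0, 0, 0, 0, 0, 0, 0, 0, 0, 0, 0, 0, 0, 0, 0, 0, 0, 0, 0, 0, 1],
    [0, 0, 0, 0, 0, 3, 3, 0, 0, 0, 0, 0, 0, 2, 0, 0, 0, 0, 0, 0, 0, 3, 1, 0, 0, 0, 3, 3],
    [0, 0, 0, 0, 0, 3, 3, 0, 0, 0, 0, 0, 0, 2, 0, 1, 1, 3, 0, 0, 0, 0, 3, 0, 0, 0, 0, 3],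
    [0, 0, 0, 0, 0, 3, 3, 0, 0, 0, 0, 0, 0, 0, 2, 0, 0, 0, 0, 0, 0, 3, 0, 1, 0, 0, 3, 3],
    [0, 0, 0, 0, 0, 0, 0, 0, 0, 0, 0, 0, 0, 0, 0, 2, 0, 0, 0, 0, 0, 0, 0, 0, 1],
    [0, 0, 0, 0, 0, 0, 0, 0, 0, 0, 0, 0, 0, 0, 0, 2, 0, 0, 0, 0, 0, 3, 0, 0, 0, 0, 3],
    [0, 0, 0, 0, 0, 0, 0, 0, 0, 0, 0, 0, 0, 0, 0, 0, 0, 0, 0, 3, 0, 0, 0, 0, 3, 0, 1, 1],
    [0, 0, 0, 0, 0, 0, 3, 0, 0, 0, 0, 0, 0, 0, 0, 0, 2, 0, 0, 0, 0, 0, 0, 0, 0, 1, 3],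
    [0, 0, 0, 0, 0, 0, 0, 0, 0, 0, 0, 0, 0, 0, 0, 0, 0, 0, 0, 0, 3, 3, 1, 0, 0, 3, 0, 3],
    [0, 0, 0, 0, 0, 0, 0, 0, 0, 0, 0, 0, 0, 0, 0, 0, 0, 0, 0, 0, 3, 1, 0, 1, 0, 3, 1],
    [0, 0, 0, 0, 0, 0, 3, 0, 0, 0, 0, 0, 0, 0, 0, 0, 0, 2, 0, 1, 1, 0, 3],
    [0, 0, 0, 0, 0, 0, 0, 0, 0, 0, 0, 0, 0, 0, 0, 0, 0, 0, 0, 2, 0, 0, 0, 0, 0, 0, 0, 3],
    [0, 1, 0, 3, 3, 1, 3, 0, 0, 0, 0, 0, 0, 0, 0, 0, 3, 0, 1, 0, 0, 0, 0, 0, 0, 0, 3, 0, 2],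
    [0, 3, 0, 0, 0, 0, 0, 0, 0, 0, 0, 3, 0, 0, 3, 0, 0, 0, 0, 0, 1, 0, 0, 0, 0, 1, 2, 2, 0, 2],
    [1, 1, 1, 2, 1, 3, 3, 1, 0, 1, 1, 2, 1, 0, 0, 0, 1, 1, 0, 1, 0, 2, 0, 1, 0, 3, 2, 1, 0, 0, 0, 0, 0, 0, 0, 2],
    [0, 0, 0, 0, 0, 3, 0, 0, 0, 0, 0, 0, 0, 0, 0, 0, 0, 0, 3, 0, 0, 0, 0, 0, 0, 0, 0, 0, 0, 0, 0, 0, 0, 0, 0, 0, 0, 0, 0, 0, 0, 0, 2],
    [0, 0, 0, 0, 0, 0, 0, 0, 0, 1, 0, 0, 0, 0, 3, 0, 0, 0, 0, 0, 0, 1, 0, 3, 0, 0, 0, 0, 0, 0, 0, 0, 0, 0, 0, 0, 0, 0, 0, 0, 0, 0, 0, 0, 0, 0, 0, 1],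
    [0, 0, 0, 0, 0, 0, 0, 0, 0, 3, 0, 1, 0, 0, 3, 0, 0, 0, 1, 1, 0, 1, 0, 3, 0, 0, 3, 2, 0, 0, 0, 0, 0, 0, 0, 0, 0, 0, 0, 0, 0, 0, 0, 0, 0, 0, 1, 1],
    [0, 0, 0, 0, 0, 0, 0, 0, 0, 0, 0, 0, 0, 0, 0, 0, 0, 0, 1, 0, 0, 0, 0, 3, 0, 0, 0, 3],
    [0, 0, 0, 0, 0, 0, 0, 0, 0, 0, 0, 0, 0, 0, 0, 0, 0, 0, 3, 0, 0, 0, 0, 0, 0, 0, 0, 3],
    [0, 3, 1, 0, 3, 3, 3, 0, 0, 0, 0, 0, 0, 0, 3, 0, 0, 0, 3, 0, 0, 0, 0, 3, 0, 0, 0, 3, 0, 0, 0, 0, 0, 0, 0, 0, 0, 0, 0, 0, 0, 0, 0, 2, 0, 0, 1, 1],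
    [0, 0, 0, 0, 0, 0, 0, 0, 0, 3, 0, 0, 1, 0, 0, 1, 0, 0, 1, 0, 0, 3, 0, 0, 0, 0, 2, 3, 0, 0, 0, 0, 0, 0, 0, 0, 0, 0, 0, 0, 0, 0, 0, 0, 0, 0, 1],
    [0, 0, 0, 0, 0, 0, 0, 0, 0, 3, 0, 3, 0, 0, 1, 2, 1, 0, 0, 0, 0, 0, 0, 1, 0, 3, 0, 1],
    [0, 3, 3, 1, 3, 3, 1, 0, 0, 3, 0, 0, 0, 0, 3, 3, 0, 0, 0, 3, 0, 3, 0, 3, 3, 0, 2, 2, 0, 0, 0, 0, 0, 0, 0, 0, 0, 0, 0, 0, 0, 0, 0, 0, 2],
    [0, 0, 0, 0, 0, 0, 1, 0, 0, 0, 0, 3, 3, 0, 1, 1, 2, 0, 3, 1, 3, 1, 0, 1, 1, 2, 1, 2, 0, 0, 0, 0, 0, 0, 0, 0, 0, 0, 0, 0, 0, 0, 0, 0, 0, 0, 0, 1],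
    [0, 3, 3, 3, 1, 2, 3, 0, 0, 3, 0, 3, 3, 0, 0, 0, 0, 0, 3, 0, 3, 0, 0, 0, 0, 1, 0, 1, 0, 0, 0, 0, 0, 0, 0, 0, 0, 0, 0, 0, 0, 0, 0, 0, 0, 2, 0, 1]]
  tgt := [
    ([], []),
    ([(0, 3)], [(0, 1), (1, 1), (2, 1), (4, 3), (5, 3), (6, 1), (8, 3), (9, 3), (12, 3), (14, 2), (18, 3), (19, 3), (20, 1), (23, 1), (26, 2), (28, 2), (30, 1), (32, 2), (33, 2), (39, 3)]),
    ([(0, 2)], [(0, 2), (3, 1), (4, 1), (6, 1), (8, 1), (9, 3), (11, 3), (12, 3), (13, 1), (14, 2), (17, 1), (18, 2), (24, 1), (26, 3), (27, 2), (28, 2), (29, 2), (30, 3), (32, 1), (36, 1), (37, 2), (39, 1)]),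
    ([(0, 3)], [(0, 2), (3, 1), (4, 1), (6, 1), (8, 2), (9, 1), (12, 1), (14, 3), (18, 1), (19, 2), (20, 3), (23, 2), (26, 3), (28, 2), (30, 1), (31, 2), (33, 1), (34, 2), (39, 3)]),
    ([(0, 3)], [(0, 2), (1, 3), (3, 1), (4, 2), (6, 2), (10, 1), (11, 1), (13, 3), (14, 1), (15, 2), (18, 1), (20, 1), (28, 2), (29, 2), (30, 1), (31, 1), (32, 3), (33, 1), (34, 2), (35, 1), (36, 3)]),
    ([], [(1, 2), (4, 2), (6, 1), (7, 2), (10, 2), (11, 3), (16, 2), (18, 1), (21, 2), (25, 3), (26, 2), (31, 2), (34, 2), (36, 2)]),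
    ([], [(1, 2), (4, 2), (6, 1), (10, 3), (11, 2), (12, 2), (17, 1), (21, 1), (25, 1), (26, 2), (31, 1), (34, 2), (35, 1), (38, 1)]),
    ([], [(0, 1), (1, 3), (3, 2), (4, 1), (6, 2), (9, 3), (13, 2), (14, 3), (17, 2), (18, 1), (20, 3), (22, 3), (26, 3), (27, 2), (28, 3), (32, 1), (36, 1)]),
    ([], []),
    ([], []),
    ([], [(0, 3), (9, 3)]),
    ([], [(0, 2), (2, 2), (4, 2), (8, 1), (9, 2), (12, 2), (13, 3), (14, 1), (15, 1), (17, 1), (18, 1), (27, 2), (30, 2), (31, 3), (35, 1), (36, 3), (38, 1), (39, 2)]),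
    ([], []),
    ([(0, 1)], [(0, 3), (1, 2), (2, 1), (3, 3), (4, 3), (6, 2), (8, 2), (10, 2), (11, 1), (12, 3), (14, 3), (15, 1), (17, 3), (18, 1), (26, 2), (28, 2), (30, 1), (31, 3), (32, 1), (35, 1), (36, 1)]),
    ([(0, 1)], [(0, 2), (1, 3), (2, 2), (3, 2), (6, 2), (8, 3), (9, 1), (10, 2), (11, 3), (12, 2), (13, 2), (14, 3), (15, 1), (18, 1), (26, 2), (27, 2), (28, 2), (30, 1), (31, 3), (32, 1), (35, 1), (36, 1), (37, 2)]),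
    ([], [(0, 2), (1, 2), (3, 2), (4, 1), (9, 1), (10, 1), (11, 2), (12, 3), (13, 3), (14, 2), (18, 3), (27, 2), (30, 1), (31, 3), (32, 3), (35, 1), (36, 1), (37, 2)]),
    ([(0, 3)], [(1, 1), (2, 2), (3, 1), (4, 3), (6, 1), (8, 3), (9, 2), (11, 2), (12, 3), (13, 1), (15, 1), (17, 2), (18, 1), (26, 2), (27, 2), (28, 2), (29, 2), (30, 1), (32, 3), (36, 1), (38, 1), (39, 2)]),
    ([(0, 3)], [(0, 2), (1, 1), (2, 2), (3, 2), (4, 2), (6, 2), (8, 2), (9, 1), (11, 3), (12, 1), (15, 1), (17, 3), (26, 2), (27, 2), (28, 2), (32, 3), (36, 2), (37, 2)]),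
    ([(0, 2)], [(3, 3), (6, 1), (9, 2), (10, 1), (11, 2), (13, 1), (14, 3), (17, 1), (27, 2), (29, 2), (31, 3), (35, 1), (37, 2), (38, 1)]),
    ([], [(3, 1), (4, 2), (6, 2), (9, 2), (11, 2), (12, 2), (13, 2), (17, 2), (18, 1), (30, 2), (36, 2), (37, 2), (39, 2)]),
    ([(0, 2)], [(1, 2), (4, 2), (6, 1), (10, 2), (11, 3), (12, 2), (14, 1), (17, 3), (29, 2), (31, 3), (32, 1), (35, 1), (38, 1)]),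
    ([], [(3, 3), (4, 2), (6, 3), (9, 2), (10, 3), (11, 1), (12, 2), (13, 1), (14, 2), (18, 2), (30, 2), (31, 3), (35, 1), (37, 2), (38, 1), (39, 2)]),
    ([(0, 2)], [(0, 2), (1, 2), (3, 3), (4, 3), (6, 2), (8, 1), (9, 1), (10, 3), (11, 1), (12, 1), (14, 1), (17, 3), (18, 3), (29, 2), (30, 2), (31, 3), (35, 1), (37, 2), (38, 1), (39, 2)]),
    ([(0, 2)], [(1, 2), (2, 2), (3, 3), (4, 1), (6, 2), (8, 1), (9, 3), (10, 1), (11, 1), (12, 3), (13, 2), (14, 3), (15, 1), (17, 2), (18, 3), (27, 2), (30, 2), (31, 3), (35, 1), (38, 1), (39, 2)]),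
    ([], [(4, 2), (6, 2), (9, 2), (11, 2), (12, 2), (13, 2), (17, 2), (18, 3), (30, 2), (36, 2), (37, 2), (39, 2)]),
    ([(0, 2)], [(2, 2), (3, 2), (4, 3), (6, 2), (8, 1), (9, 1), (10, 3), (11, 1), (12, 1), (13, 3), (14, 1), (15, 1), (18, 3), (30, 2), (31, 3), (32, 3), (35, 1), (37, 2), (38, 1), (39, 2)]),
    ([], [(14, 1)]),
    ([], [(2, 2), (3, 2), (4, 3), (6, 3), (8, 1), (9, 3), (10, 2), (11, 1), (12, 1), (13, 1), (14, 2), (15, 1), (17, 3), (18, 1), (27, 2), (30, 2), (32, 3), (39, 2)])]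

/-- Orbits inside the subgroup. -/
def orbits : List (ℕ × List (ℕ × List ℕ)) := [
    (0, [(0, []), (1, [1]), (2, [0, 5]), (3, [1, 6]), (7, [2, 5]), (9, [1, 2, 3]), (10, [1, 5, 6]), (11, [1, 4, 5]), (12, [0]), (13, [2, 3]), (14, [1, 3]), (16, [4, 6]), (17, [0, 2, 4]), (19, [1, 2, 5]), (20, [3, 6]), (21, [2, 3, 5, 6]), (23, [0, 5, 6]), (24, [3, 4, 5, 6]), (28, [1, 2, 3, 4]), (30, [3, 5]), (32, [2, 5, 6]), (33, [1, 2, 6]), (34, [1, 5]), (36, [1, 4, 5, 6]), (37, [0, 4, 6]), (40, [0, 2, 4, 5]), (43, [3, 4, 6]), (45, [0, 6]), (46, [0, 2]), (47, [2, 4]), (50, [1, 2, 5, 6]), (51, [2, 3, 4]), (54, [1, 3, 6]), (55, [2, 3, 4, 5]), (56, [5, 6]), (58, [3, 4]), (59, [2, 6]), (62, [1, 2, 4, 5, 6]), (63, [1, 2]), (64, [3]), (67, [0, 1, 3]), (69, [1, 2, 4, 5]), (70, [4, 5, 6]), (72, [1, 4]), (73,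 [5]), (75, [0, 2, 3]), (76, [0, 2, 6]), (78, [0, 2, 5]), (79, [6]), (81, [0, 2, 4, 6]), (82, [4, 5]), (83, [2]), (86, [2, 4, 5, 6]), (87, [2, 3, 6]), (88, [3, 5, 6]), (89, [1, 2, 4]), (90, [2, 3, 5]), (91, [2, 4, 5]), (92, [0, 4]), (94, [1, 4, 6]), (95, [4]), (97, [2, 4, 6]), (98, [2, 3, 4, 6]), (99, [3, 4, 5])]),
    (1, [(1, []), (40, [0, 1, 2, 4])])]

theorem ident_ok : identPerm 7 CfsgLib.Spor.Mults.JTwo.eltRows 224 CfsgLib.Spor.Mults.JTwo.basePts cert sw gw = true := by decide +kernel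

theorem sub_ok : subPermOK 100 7 CfsgLib.Spor.Mults.JTwo.eltRows sw [] orbits = true := by decide +kernel

theorem shape_ok : cert.shapeOK = true := by decide +kernel

theorem lin_ok : cert.linOK = true := by decide +kernel

theorem prod_ok : cert.p ^ cert.m ≤ (orbits.map fun e => e.2.length).prod := by decide +kernel

end CfsgLib.Spor.Mults.JTwo.P2
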