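import Cfsg.Agent.Lib.Spor.SchurCert.PermBridge
import Cfsg.Agent.Lib.Spor.Mults.JTwo.Data

/-!
The certificate at the prime 3: a polycyclic sequence of a Sylow subgroup and conjugations killing the tails.
-/

set_option autoImplicit false
set_option maxRecDepth 100000
set_option maxHeartbeats 0

namespace CfsgLib.Spor.Mults.JTwo.P3

open CfsgLib.Spor.SchurCert

/-- The Sylow elements. -/
def sw : List (List ℕ) := [
    [215, 85, 77, 189],
    [131, 93, 113, 194],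
    [176, 203, 77, 4]]

/-- The conjugating elements. -/
def gw : List (List ℕ) := [
    [59, 36, 4, 192]]

/-- The certificate. -/
def cert : SchurCert.Cert where
  p := 3
  m := 3
  N := 3
  rules := [
    ([0, 0, 0], []),
    ([1, 1, 1], []),
    ([2, 2, 2], []),
    ([1, 0], [0, 1, 2, 2]),
    ([2, 0], [0, 2]),
    ([2, 1], [1, 2])]
  maps := [
    [([0], [0, 0, 2, 2]), ([1], [1, 1, 2]), ([2], [2])]]
  overlaps := [
    ([1, 1, 1, 0], [(1, 0)], [(3, 2), (3, 1), (3, 0), (5, 3), (5, 2), (2, 3), (5, 3), (1, 1), (2, 1)])]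
  fuses := [
    ⟨0, [0, 0, 0], [], [(0, 0)], [], [(4, 3), (4, 2), (0, 0), (4, 1), (4, 0), (2, 1), (4, 1), (4, 2), (0, 0), (2, 0)], []⟩,
    ⟨0, [2, 0], [0, 2], [(4, 0)], [], [(4, 0), (4, 1), (2, 2)], [(2, 2)]⟩,
    ⟨0, [1, 1, 1], [], [(1, 0)], [], [(5, 2), (1, 0), (5, 0), (5, 2), (5, 1), (5, 3), (5, 2), (1, 0), (2, 0)], []⟩,
    ⟨0, [2, 1], [1, 2], [(5, 0)], [], [(5, 0), (5, 1)], []⟩]
  adj := [
    [],
    [],
    [(3, 2)]]
  base := []
  dense := [
    [0, 0, 1],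
    [2, 0, 1],
    [0, 0, 0, 0, 2],
    [0, 2, 2],
    [0, 0, 0, 0, 0, 2]]
  tgt := [
    ([], [(0, 1), (1, 2)]),
    ([], [(0, 2), (3, 2)]),
    ([], [(0, 1)]),
    ([], []),
    ([], [(2, 2)]),
    ([], [(4, 2)])]

/-- Orbits inside the subgroup. -/
def orbits : List (ℕ × List (ℕ × List ℕ)) := [
    (0, [(0, []), (2, [0, 1, 2]), (13, [0, 0, 1, 1]), (14, [0, 0, 2]), (16, [0, 0, 1]), (18, [0, 1, 1]), (33, [1, 1, 2, 2]), (34, [0, 0, 1, 1, 2]), (35, [2, 2]), (36, [1, 2]), (40, [0, 0, 1, 1, 2, 2]), (44, [0]), (46, [1, 1, 2]), (49, [0, 1, 2, 2]), (53, [0, 0, 1, 2]), (55, [2]), (57, [0, 2]), (61, [1, 1]), (64, [0, 0, 2, 2]), (66, [0, 1, 1, 2]), (70, [0, 2, 2]), (74, [1]), (77, [0, 0]), (91, [0, 1]), (92, [1, 2, 2]), (93, [0, 0, 1, 2, 2]), (95, [0, 1, 1, 2, 2])])]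

theorem ident_ok : identPerm 7 CfsgLib.Spor.Mults.JTwo.eltRows 224 CfsgLib.Spor.Mults.JTwo.basePts cert sw gw = true := by decide +kernel

theorem sub_ok : subPermOK 100 7 CfsgLib.Spor.Mults.JTwo.eltRows sw [] orbits = true := by decide +kernel

theorem shape_ok : cert.shapeOK = true := by decide +kernel

theorem lin_ok : cert.linOK = true := by decide +kernel

theorem prod_ok : cert.p ^ cert.m ≤ (orbits.map fun e => e.2.length).prod := by decide +kernel

end CfsgLib.Spor.Mults.JTwo.P3
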