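import Cfsg.Agent.Lib.Spor.SchurCert.PermBridge
import Cfsg.Agent.Lib.Spor.Mults.JTwo.Data

/-!
The certificate at the prime 5: a polycyclic sequence of a Sylow subgroup and conjugations killing the tails.
-/

set_option autoImplicit false
set_option maxRecDepth 100000
set_option maxHeartbeats 0

namespace CfsgLib.Spor.Mults.JTwo.P5

open CfsgLib.Spor.SchurCert

/-- The Sylow elements. -/
def sw : List (List ℕ) := [
    [56, 203, 113, 198],
    [65, 162, 114, 199]]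

/-- The conjugating elements. -/
def gw : List (List ℕ) := [
    [182, 48, 113, 199],
    [137, 158, 115, 195]]

/-- The certificate. -/
def cert : SchurCert.Cert where
  p := 5
  m := 2
  N := 5
  rules := [
    ([0, 0, 0, 0, 0], []),
    ([1, 1, 1, 1, 1], []),
    ([1, 0], [0, 1])]
  maps := [
    [([0], [0]), ([1], [0, 0, 0, 1, 1, 1, 1])],
    [([0], [0, 0, 0, 0]), ([1], [0, 0, 1])]]
  overlaps := []
  fuses := [
    ⟨0, [1, 0], [0, 1], [(2, 0)], [], [(2, 6), (2, 5), (2, 4), (2, 3)], []⟩,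
    ⟨0, [1, 1, 1, 1, 1], [], [(1, 0)], [], [(2, 6), (2, 5), (2, 4), (2, 3), (2, 7), (2, 6), (2, 5), (2, 4), (0, 0), (2, 3), (2, 2), (2, 1), (2, 0), (1, 1), (2, 3), (2, 2), (2, 1), (2, 4), (2, 3), (2, 2), (2, 5), (2, 4), (2, 3), (1, 4), (2, 5), (2, 4), (0, 0), (2, 1), (2, 0), (2, 2), (2, 1), (1, 2), (2, 2), (2, 3), (2, 4), (0, 0), (1, 0)], []⟩,
    ⟨1, [0, 0, 0, 0, 0], [], [(0, 0)], [], [(0, 0), (0, 0), (0, 0), (0, 0)], []⟩]
  adj := [
    [],
    []]
  base := []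
  dense := [
    [0, 0, 2],
    [2, 2],
    [2]]
  tgt := [
    ([], [(2, 3)]),
    ([], [(1, 3), (2, 2)]),
    ([], [(0, 3)])]

/-- Orbits inside the subgroup. -/
def orbits : List (ℕ × List (ℕ × List ℕ)) := [
    (0, [(0, []), (2, [0, 0, 0, 0, 1]), (3, [0, 0, 0, 0, 1, 1, 1, 1]), (9, [0, 0, 0, 0, 1, 1, 1]), (11, [0, 0, 0, 1, 1, 1]), (12, [0, 0, 0, 1, 1]), (20, [0, 0, 1, 1, 1, 1]), (22, [0, 1, 1, 1, 1]), (23, [0, 0, 1]), (24, [1, 1, 1, 1]), (30, [1]), (34, [0, 0, 0]), (41, [0, 1, 1, 1]), (42, [0, 0]), (45, [1, 1, 1]), (52, [0, 0, 0, 1]), (56, [0, 0, 1, 1, 1]), (57, [0, 1]), (58, [0, 0, 1, 1]), (60, [0, 1, 1]), (66, [0]), (76, [0, 0, 0, 1, 1, 1, 1]), (80, [1, 1]), (93, [0, 0, 0, 0]), (94, [0, 0, 0, 0, 1, 1])])]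

theorem ident_ok : identPerm 7 CfsgLib.Spor.Mults.JTwo.eltRows 224 CfsgLib.Spor.Mults.JTwo.basePts cert sw gw = true := by decide +kernel

theorem sub_ok : subPermOK 100 7 CfsgLib.Spor.Mults.JTwo.eltRows sw [] orbits = true := by decide +kernel

theorem shape_ok : cert.shapeOK = true := by decide +kernel

theorem lin_ok : cert.linOK = true := by decide +kernel

theorem prod_ok : cert.p ^ cert.m ≤ (orbits.map fun e => e.2.length).prod := by decide +kernel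

end CfsgLib.Spor.Mults.JTwo.P5
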