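import Cfsg.Agent.Lib.Spor.Mults.Stem
import Cfsg.Agent.Lib.Spor.Mults.JTwo.Bound
import Cfsg.Agent.Lib.Char.J2.Elements

/-!
The Schur multiplier of the Hall-Janko group has order two: the bound, and the reflection group as a double
cover, with minus one the square of a diagonal isometry.
-/

set_option autoImplicit false
set_option maxRecDepth 20000

namespace CfsgLib.Spor.Mults.JTwo

open Cfsg Cfsg.Spor CfsgLib.Char.J2 Quaternion

theorem unit_check : (List.finRange 3).all (fun k =>
    decide (qmul (dQ 8 k) (dQ 8 k) = qneg qone) && isIco (dQ 8 k)) = true := by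
  decide +kernel

/-- A diagonal isometry whose square is minus one. -/
theorem sq_eq_negI : dEl ⟨8, by norm_num⟩ * dEl ⟨8, by norm_num⟩ = negI := by
  refine diag_eq_of fun k => ?_
  have hc := unit_check
  simp only [List.all_eq_true, Bool.and_eq_true, decide_eq_true_eq] at hc
  obtain ⟨hq, hi⟩ := hc k (List.mem_finRange k)
  set x : ↥Isom := dEl ⟨8, by norm_num⟩
  set u := toQ (uAt (dUnits 8 k)) with hu
  have hd : (x.1 (eL k)).1 = fun t => u * eV k t := isDiag_dEl ⟨8, by norm_num⟩ k
  have hmem : u ∈ icosians := toQ_mem_icosians_iff.2 (isIco_uAt _)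
  have e1 : x.1 (eL k) = ⟨_, CfsgLib.Char.J2.smul_mem hmem (eL k)⟩ := Subtype.ext hd
  show (x.1 (x.1 (eL k))).1 = -(eL k).1
  rw [e1, apply_smul x.2 hmem, hd]
  funext t
  show u * (u * eV k t) = -(eV k t)
  have e2 : u * u = -1 := by
    rw [hu, ← toQ_qmul (isIco_uAt _) (isIco_uAt _)]
    rw [show qmul (uAt (dUnits 8 k)) (uAt (dUnits 8 k)) = qneg qone from hq, toQ_neg, toQ_one]
  rw [← mul_assoc, e2, neg_one_mul]

theorem commutator_J2 : commutator J2 = ⊤ :=
  haveI := isSimpleGroup_J2
  commutator_eq_top_of_simple exists_not_commute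

/-- Minus one in the reflection group. -/
noncomputable def negT : ↥twoJ2 := toIsom.symm negI

theorem ker_mk_le : (QuotientGroup.mk' (Subgroup.center ↥twoJ2)).ker ≤ Subgroup.zpowers negT := by
  intro g hg
  rw [QuotientGroup.ker_mk'] at hg
  rcases mem_center_twoJ2.1 hg with h | h
  · rw [show g = 1 from toIsom.injective (by rw [h, map_one])]
    exact one_mem _
  · rw [show g = negT from toIsom.injective (by rw [h, negT, MulEquiv.apply_symm_apply])]
    exact Subgroup.mem_zpowers _

theorem cover : ∃ (Γ : Type) (_ : Group Γ) (_ : Finite Γ) (σ : Γ →* J2),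
    Cfsg.IsStemExtension σ ∧ Nat.card σ.ker = 2 := by
  refine ⟨↥twoJ2, inferInstance, inferInstance, QuotientGroup.mk' _, ?_, ?_⟩
  · refine isStem_of_pow (z := negT) (QuotientGroup.mk'_surjective _) commutator_J2 ker_mk_le
      (QuotientGroup.ker_mk' _).le (d := 2) ?_ (toIsom.symm (dEl ⟨8, by norm_num⟩)) ?_
    · refine toIsom.injective ?_
      rw [map_pow, negT, MulEquiv.apply_symm_apply, map_one, pow_two]
      exact Subtype.ext (Equiv.ext fun x => Subtype.ext (neg_neg _))
    · rw [pow_two, ← map_mul, sq_eq_negI, negT]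
  · rw [QuotientGroup.ker_mk', card_center_twoJ2]

theorem multiplier_J2 : Cfsg.HasCyclicSchurMultiplier J2 2 := by
  haveI : Fact (Nat.Prime 2) := ⟨Nat.prime_two⟩
  refine SchurCert.hasCyclic_prime cover fun Γ _ _ σ hσ => ?_
  have hk : (equivP100.toMonoidHom.comp σ).ker = σ.ker :=
    MonoidHom.ker_comp_of_injective _ _ equivP100.injective
  have := card_ker_dvd (σ := equivP100.toMonoidHom.comp σ)
    ⟨equivP100.surjective.comp hσ.1, hk.le.trans hσ.2.1, hk.le.trans hσ.2.2⟩
  rwa [hk] at this

end CfsgLib.Spor.Mults.JTwo
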